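import Groth.Agent.SGA3.K101.PtCoset

/-!
# Descent of a section of an extension by a smooth connected unipotent group (perfect field)
-/

set_option autoImplicit false

universe u

open TensorProduct HopfRep WithConv
open Groth.Agent.Books.ComodDual Groth.Agent.Books.DynBasic
open Groth.Agent.Sga3.H814.UniStep K203.Pts K203.HomPt

namespace K101.DescSec

open K101.GalPt K101.PtCoset

section coef

variable {k : Type u} [Field k] {A : Type u} [CommRing A] [HopfAlgebra k A]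
  {B : Type u} [CommRing B] [HopfAlgebra k B] {M : Type u} [CommRing M] [Algebra k M]

/-- The subalgebra `R ⊗ B` of `M ⊗ B`. -/
noncomputable def rg (B : Type u) [CommRing B] [HopfAlgebra k B] (R : Subalgebra k M) :
    Subalgebra k (M ⊗[k] B) :=
  (Algebra.TensorProduct.map R.val (AlgHom.id k B)).range

lemma mem_rg_iff (R : Subalgebra k M) (z : M ⊗[k] B) :
    z ∈ rg B R ↔ ∀ φ : B →ₗ[k] k, contr φ z ∈ R := by
  rw [← Subalgebra.mem_toSubmodule]
  have h1 := mem_range_rTensor_iff (A := B) (Subalgebra.toSubmodule R) z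
  exact h1

/-- The coefficients of the point `P` lie in `R`. -/
def Coef (R : Subalgebra k M) (P : WithConv (A →ₐ[k] M ⊗[k] B)) : Prop :=
  ∀ a, P.ofConv a ∈ rg B R

lemma Coef.mul {R : Subalgebra k M} {P Q : WithConv (A →ₐ[k] M ⊗[k] B)} (hP : Coef R P) (hQ : Coef R Q) :
    Coef R (P * Q) := by
  intro a
  rw [mul_apply]
  generalize (CoalgebraStruct.comul (R := k) a : A ⊗[k] A) = z
  induction z with
  | zero => rw [map_zero]; exact zero_mem _
  | add u v hu hv => rw [map_add]; exact add_mem hu hv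
  | tmul u v =>
    rw [Algebra.TensorProduct.lift_tmul]
    exact mul_mem (hP u) (hQ v)

lemma Coef.inv {R : Subalgebra k M} {P : WithConv (A →ₐ[k] M ⊗[k] B)} (hP : Coef R P) :
    Coef R P⁻¹ := by
  intro a
  exact hP (HopfAlgebraStruct.antipode k a)

lemma coef_cst {R : Subalgebra k M} {w : WithConv (A →ₐ[k] M)} (hw : ∀ a, w.ofConv a ∈ R) :
    Coef R (cst B w) := by
  intro a
  exact ⟨(⟨w.ofConv a, hw a⟩ : R) ⊗ₜ 1, rfl⟩

variable {N : Type u} [CommRing N] [Algebra k N]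

lemma contr_bc (g : M →ₐ[k] N) (φ : B →ₗ[k] k) (z : M ⊗[k] B) :
    contr φ (Groth.Agent.Sga3A.MTBasis.bc B g z) = g (contr φ z) :=
  contr_comp_rTensor φ g.toLinearMap z

/-- Change of rings for coefficients. -/
lemma coef_bc {R : Subalgebra k M} {R' : Subalgebra k N} (g : M →ₐ[k] N) (hg : ∀ r ∈ R, g r ∈ R')
    {P : WithConv (A →ₐ[k] M ⊗[k] B)} (hP : Coef R P) :
    Coef R' (mapPt (Groth.Agent.Sga3A.MTBasis.bc B g) P) := by
  intro a
  rw [mem_rg_iff]
  intro φ
  change contr φ (Groth.Agent.Sga3A.MTBasis.bc B g (P.ofConv a)) ∈ R'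
  rw [contr_bc]
  exact hg _ ((mem_rg_iff R _).1 (hP a) φ)

/-- The subalgebra generated by the coefficients. -/
noncomputable def coefAlg (P : WithConv (A →ₐ[k] M ⊗[k] B)) : Subalgebra k M :=
  Algebra.adjoin k {c | ∃ (φ : B →ₗ[k] k) (a : A), c = contr φ (P.ofConv a)}

lemma coef_coefAlg (P : WithConv (A →ₐ[k] M ⊗[k] B)) : Coef (coefAlg P) P := by
  intro a
  rw [mem_rg_iff]
  exact fun φ => Algebra.subset_adjoin ⟨φ, a, rfl⟩

lemma coefAlg_le {R : Subalgebra k M} {P : WithConv (A →ₐ[k] M ⊗[k] B)} (hP : Coef R P) :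
    coefAlg P ≤ R := by
  refine Algebra.adjoin_le ?_
  rintro _ ⟨φ, a, rfl⟩
  exact (mem_rg_iff R _).1 (hP a) φ

lemma mapPt_bc_cst (g : M →ₐ[k] N) (w : WithConv (A →ₐ[k] M)) :
    mapPt (Groth.Agent.Sga3A.MTBasis.bc B g) (cst B w) = cst B (mapPt g w) := rfl

/-- conjugation by the inverse -/
noncomputable def cj (x : WithConv (A →ₐ[k] M ⊗[k] B)) (w : WithConv (A →ₐ[k] M)) :
    WithConv (A →ₐ[k] M ⊗[k] B) := cst B w⁻¹ * x * (cst B w⁻¹)⁻¹

lemma mapPt_cj (g : M →ₐ[k] N) (x : WithConv (A →ₐ[k] M ⊗[k] B)) (w : WithConv (A →ₐ[k] M)) :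
    mapPt (Groth.Agent.Sga3A.MTBasis.bc B g) (cj x w) =
      cj (mapPt (Groth.Agent.Sga3A.MTBasis.bc B g) x) (mapPt g w) := by
  rw [cj, cj, map_mul, map_mul, map_inv, mapPt_bc_cst, map_inv]

lemma cst_mul (w w' : WithConv (A →ₐ[k] M)) : cst B (w * w') = cst B w * cst B w' := map_mul _ _ _

lemma cst_inv (w : WithConv (A →ₐ[k] M)) : cst B w⁻¹ = (cst B w)⁻¹ := map_inv _ _

lemma cst_one : cst B (1 : WithConv (A →ₐ[k] M)) = 1 := map_one _

lemma cj_mul (x : WithConv (A →ₐ[k] M ⊗[k] B)) (w w' : WithConv (A →ₐ[k] M)) :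
    cj x (w * w') = cj (cj x w) w' := by
  rw [cj, cj, cj, cst_inv, cst_inv, cst_inv, cst_mul]
  group

lemma cj_one (x : WithConv (A →ₐ[k] M ⊗[k] B)) : cj x 1 = x := by
  rw [cj, cst_inv, cst_one]
  group

lemma Coef.cj {R : Subalgebra k M} {P : WithConv (A →ₐ[k] M ⊗[k] B)} (hP : Coef R P)
    {w : WithConv (A →ₐ[k] M)} (hw : ∀ a, w.ofConv a ∈ R) : Coef R (cj P w) := by
  rw [DescSec.cj, cst_inv, inv_inv]
  exact ((coef_cst hw).inv.mul hP).mul (coef_cst hw)

end coef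

section univ

variable (k : Type u) [Field k] (K : Type u) [Field K] [Algebra k K] {A : Type u} [CommRing A]
  [HopfAlgebra k A] {B : Type u} [CommRing B] [HopfAlgebra k B] {H : Type u} [CommRing H] [HopfAlgebra k H]
  (r : A →ₐc[k] H) (x : WithConv (A →ₐ[k] K ⊗[k] B))

/-- The universal conjugate of `x`. -/
noncomputable def XX : WithConv (A →ₐ[k] (K ⊗[k] H) ⊗[k] B) :=
  cj (mapPt (Groth.Agent.Sga3A.MTBasis.bc B (Algebra.TensorProduct.includeLeft : K →ₐ[k] K ⊗[k] H)) x)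
    (ofB K (pt r))

/-- Evaluation of the universal conjugate. -/
lemma mapPt_XX (v : WithConv (H →ₐ[k] K)) :
    mapPt (Groth.Agent.Sga3A.MTBasis.bc B (evL v)) (XX k K r x) = cj x (mapPt v.ofConv (pt r)) := by
  rw [XX, mapPt_cj, ev_ofB', ← mapPt_comp, ← Groth.Agent.Sga3A.MTBasis.bc_comp]
  have h1 : (evL v).comp (Algebra.TensorProduct.includeLeft : K →ₐ[k] K ⊗[k] H) = AlgHom.id k K := by
    apply AlgHom.ext
    intro c
    change evL v (c ⊗ₜ 1) = c
    rw [evL_tmul, map_one, mul_one]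
  have h2 : Groth.Agent.Sga3A.MTBasis.bc B (AlgHom.id k K) = AlgHom.id k (K ⊗[k] B) := by
    apply Algebra.TensorProduct.ext <;> ext <;> simp
  rw [h1, h2]
  rfl

/-- The universal conjugate under right translations. -/
lemma mapPt_coactAlg_XX :
    mapPt (Groth.Agent.Sga3A.MTBasis.bc B (coactAlg k K H)) (XX k K r x) =
      cj (mapPt (Groth.Agent.Sga3A.MTBasis.bc B Algebra.TensorProduct.includeLeft) (XX k K r x))
        (mapPt Algebra.TensorProduct.includeRight (pt r)) := by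
  rw [XX, mapPt_cj, mapPt_coactAlg_ofB, mapPt_cj, cj_mul, ← mapPt_comp, ← mapPt_comp,
    ← Groth.Agent.Sga3A.MTBasis.bc_comp, ← Groth.Agent.Sga3A.MTBasis.bc_comp]
  congr 2
  have h1 : (coactAlg k K H).comp (Algebra.TensorProduct.includeLeft : K →ₐ[k] K ⊗[k] H) =
      (Algebra.TensorProduct.includeLeft : K ⊗[k] H →ₐ[k] (K ⊗[k] H) ⊗[k] H).comp
        (Algebra.TensorProduct.includeLeft : K →ₐ[k] K ⊗[k] H) := by
    apply AlgHom.ext
    intro c
    change coactAlg k K H (c ⊗ₜ 1) = (c ⊗ₜ 1) ⊗ₜ 1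
    rw [coactAlg_tmul, Bialgebra.comul_one, Algebra.TensorProduct.one_def, TensorProduct.assoc_symm_tmul]
  rw [h1]

lemma coefAlg_stable (w : K ⊗[k] H) (hw : w ∈ coefAlg (XX k K r x)) (f : H →ₗ[k] k) :
    contr f (coactAlg k K H w) ∈ coefAlg (XX k K r x) := by
  set W := coefAlg (XX k K r x) with hWdef
  have h1 : W ≤ (rg H W).comap (coactAlg k K H) := by
    conv_lhs => rw [hWdef]
    apply coefAlg_le
    intro a
    rw [mem_rg_iff]
    intro φ
    rw [Subalgebra.mem_comap, ← contr_bc]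
    have h2 := DFunLike.congr_fun (congrArg WithConv.ofConv (mapPt_coactAlg_XX k K r x)) a
    change Groth.Agent.Sga3A.MTBasis.bc B (coactAlg k K H) ((XX k K r x).ofConv a) = _ at h2
    rw [h2]
    refine (mem_rg_iff (rg H W) _).1 (Coef.cj (coef_bc _ ?_ (coef_coefAlg (XX k K r x))) ?_ a) φ
    · intro w hw
      exact ⟨(⟨w, hw⟩ : W) ⊗ₜ 1, rfl⟩
    · intro a
      exact ⟨1 ⊗ₜ r a, rfl⟩
  exact (mem_rg_iff W _).1 (h1 hw) f

end univ

section fac

variable {k : Type u} [Field k] {A : Type u} [CommRing A] [HopfAlgebra k A]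
  {B : Type u} [CommRing B] [HopfAlgebra k B] {M : Type u} [CommRing M] [Algebra k M] (W : Subalgebra k M)

lemma bc_val_injective : Function.Injective (Groth.Agent.Sga3A.MTBasis.bc B W.val) :=
  Module.Flat.rTensor_preserves_injective_linearMap (M := B) W.val.toLinearMap Subtype.val_injective

/-- Factorization of a point through its coefficients. -/
theorem exists_fac {P : WithConv (A →ₐ[k] M ⊗[k] B)} (hP : Coef W P) :
    ∃ Q : WithConv (A →ₐ[k] W ⊗[k] B), mapPt (Groth.Agent.Sga3A.MTBasis.bc B W.val) Q = P := by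
  let i := Groth.Agent.Sga3A.MTBasis.bc B W.val
  have hi : Function.Injective i := bc_val_injective W
  let e := AlgEquiv.ofInjective i hi
  refine ⟨toConv ((e.symm : i.range →ₐ[k] W ⊗[k] B).comp (P.ofConv.codRestrict i.range fun a => hP a)), ?_⟩
  apply K203.Pts.ext
  intro a
  exact congrArg Subtype.val (e.apply_symm_apply (P.ofConv.codRestrict i.range (fun a => hP a) a))

theorem isHom_of_fac {Q : WithConv (A →ₐ[k] W ⊗[k] B)}
    (hQ : IsHom (mapPt (Groth.Agent.Sga3A.MTBasis.bc B W.val) Q)) : IsHom Q := by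
  let i : W ⊗[k] (B ⊗[k] B) →ₐ[k] M ⊗[k] (B ⊗[k] B) :=
    Algebra.TensorProduct.map W.val (AlgHom.id k (B ⊗[k] B))
  have hi : Function.Injective i :=
    Module.Flat.rTensor_preserves_injective_linearMap (M := B ⊗[k] B) W.val.toLinearMap
      Subtype.val_injective
  have h1 : (mD B M).comp (Groth.Agent.Sga3A.MTBasis.bc B W.val) = i.comp (mD B W) := by
    apply Algebra.TensorProduct.ext <;> ext <;> simp [mD, i]
  have h2 : (mL B M).comp (Groth.Agent.Sga3A.MTBasis.bc B W.val) = i.comp (mL B W) := by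
    apply Algebra.TensorProduct.ext <;> ext <;> simp [mL, i]
  have h3 : (mR B M).comp (Groth.Agent.Sga3A.MTBasis.bc B W.val) = i.comp (mR B W) := by
    apply Algebra.TensorProduct.ext <;> ext <;> simp [mR, i]
  apply mapPt_injective i hi
  rw [map_mul]
  rw [IsHom, ← mapPt_comp, ← mapPt_comp, ← mapPt_comp, h1, h2, h3] at hQ
  exact hQ

theorem isLift_of_fac (ψ : B →ₐc[k] A) {Q : WithConv (A →ₐ[k] W ⊗[k] B)}
    (hQ : IsLift ψ (mapPt (Groth.Agent.Sga3A.MTBasis.bc B W.val) Q)) : IsLift ψ Q := by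
  intro b
  apply bc_val_injective (B := B) W
  rw [Groth.Agent.Sga3A.MTBasis.bc_tmul, map_one]
  exact hQ b

end fac

/-- **Descent of a section of an extension by a smooth connected unipotent group.** -/
theorem exists_retraction_of_conj (k : Type u) [Field k] [PerfectField k] (K : Type u) [Field K] [Algebra k K]
    [IsAlgClosed K] [Algebra.IsAlgebraic k K] (A B : Type u) [CommRing A] [HopfAlgebra k A] [Algebra.FiniteType k A]
    [CommRing B] [HopfAlgebra k B] (ψ : B →ₐc[k] A) (J : Ideal A) [J.IsHopfIdeal k] (hJ : J = kerIdeal ψ)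
    (hU : HopfRep.IsUnipotent k (A ⧸ J)) [IsDomain (K ⊗[k] (A ⧸ J))]
    (x : WithConv (A →ₐ[k] K ⊗[k] B)) (hx : IsHom x) (hl : IsLift ψ x)
    (hconj : ∀ y : WithConv (A →ₐ[k] K ⊗[k] B), IsHom y → IsLift ψ y →
      ∃ u : WithConv (A →ₐ[k] K), res ψ u = 1 ∧ y = cst B u * x * (cst B u)⁻¹) :
    ∃ r : A →ₐc[k] B, r.comp ψ = BialgHom.id k B := by
  have hft : Algebra.FiniteType k (A ⧸ J) := inferInstance
  let q : A →ₐc[k] (A ⧸ J) := Bialgebra.Quotient.mkBialgHom J
  have hmk : ∀ (R : Type u) [CommRing R] [Algebra k R] (v : WithConv ((A ⧸ J) →ₐ[k] R)),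
      res ψ (mapPt v.ofConv (pt q)) = 1 := by
    intro R _ _ v
    rw [← kill_iff, ← hJ]
    intro a ha
    change v.ofConv (Ideal.Quotient.mk J a) = 0
    rw [Ideal.Quotient.eq_zero_iff_mem.2 ha, map_zero]
  let X : WithConv (A →ₐ[k] (K ⊗[k] (A ⧸ J)) ⊗[k] B) := XX k K q x
  have hXhom : IsHom X := (hx.bc _).conj _
  have hXlift : IsLift ψ X := by
    refine (hl.bc _).conj _ ?_
    rw [map_inv, inv_eq_one]
    exact hmk (K ⊗[k] (A ⧸ J)) (toConv (Algebra.TensorProduct.includeRight : (A ⧸ J) →ₐ[k] K ⊗[k] (A ⧸ J)))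
  obtain ⟨e⟩ := nonempty_algHom k K (A ⧸ J) hU (coefAlg X) (coefAlg_stable k K q x) (by
    intro σ
    obtain ⟨u, hu, hxu⟩ := hconj _ (hx.bc (σ : K →ₐ[k] K)) (hl.bc (σ : K →ₐ[k] K))
    have hu' : ∀ a ∈ J, (u⁻¹).ofConv a = 0 := by
      rw [hJ, kill_iff, map_inv, hu, inv_one]
    let v : WithConv ((A ⧸ J) →ₐ[k] K) := toConv (Ideal.Quotient.liftₐ J (u⁻¹).ofConv hu')
    have hv : mapPt v.ofConv (pt q) = u⁻¹ := rfl
    refine ⟨v, ?_⟩
    have h1 : mapPt (Groth.Agent.Sga3A.MTBasis.bc B (evL v)) X =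
        mapPt (Groth.Agent.Sga3A.MTBasis.bc B (σ : K →ₐ[k] K)) x := by
      rw [mapPt_XX, hv, hxu, cj, inv_inv]
    have h2 : mapPt (Groth.Agent.Sga3A.MTBasis.bc B (ev1 k K (A ⧸ J))) X = x := by
      rw [ev1, mapPt_XX]
      have h3 : mapPt (1 : WithConv ((A ⧸ J) →ₐ[k] K)).ofConv (pt q) = 1 := by
        apply K203.Pts.ext
        intro a
        change (1 : WithConv ((A ⧸ J) →ₐ[k] K)).ofConv (q a) = _
        rw [one_apply, one_apply, CoalgHomClass.counit_comp_apply]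
      rw [h3, cj_one]
    have h4 : coefAlg X ≤ AlgHom.equalizer ((σ : K →ₐ[k] K).comp (ev1 k K (A ⧸ J))) (evL v) := by
      apply Algebra.adjoin_le
      rintro _ ⟨φ, a, rfl⟩
      rw [SetLike.mem_coe, AlgHom.mem_equalizer, AlgHom.comp_apply, ← contr_bc, ← contr_bc, ← contr_bc]
      have h5 := DFunLike.congr_fun (congrArg WithConv.ofConv h1) a
      have h6 := DFunLike.congr_fun (congrArg WithConv.ofConv h2) a
      change Groth.Agent.Sga3A.MTBasis.bc B (evL v) (X.ofConv a) =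
        Groth.Agent.Sga3A.MTBasis.bc B (σ : K →ₐ[k] K) (x.ofConv a) at h5
      change Groth.Agent.Sga3A.MTBasis.bc B (ev1 k K (A ⧸ J)) (X.ofConv a) = x.ofConv a at h6
      rw [h5, h6]
    intro w hw
    exact h4 hw)
  obtain ⟨Q, hQ⟩ := exists_fac (coefAlg X) (coef_coefAlg X)
  have hQh : IsHom Q := isHom_of_fac _ (by rw [hQ]; exact hXhom)
  have hQl : IsLift ψ Q := isLift_of_fac _ ψ (by rw [hQ]; exact hXlift)
  exact exists_of_isHom ψ (mapPt (Groth.Agent.Sga3A.MTBasis.bc B e) Q) (hQh.bc e) (hQl.bc e)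
    (fun a => ⟨TensorProduct.lid k B ((mapPt (Groth.Agent.Sga3A.MTBasis.bc B e) Q).ofConv a), by
      apply (TensorProduct.lid k B).injective
      rw [TensorProduct.lid_tmul, one_smul]⟩)

end K101.DescSec
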