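import Groth.Agent.SGA3.K203.HomPt
import Groth.Agent.Sga3.H814.PolyThm
import Mathlib.FieldTheory.Galois.Infinite

/-!
# Rational points of homogeneous spaces of connected unipotent groups (perfect field)

`k` perfect, `K` an algebraic closure, `H` a finitely generated unipotent Hopf algebra, `K ⊗ H` a domain.

* `cL`: `K ⊗ H` as a comodule algebra (right translations);
* `nonempty_algHom`: a `k`-subalgebra `W` of `K ⊗ H`, stable under right translations, such that for every
  automorphism `σ` of `K/k` there is a point `v` with `σ (w(1)) = w(v)` for all `w ∈ W`, has a `k`-point.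
-/

set_option autoImplicit false

universe u

open TensorProduct HopfRep WithConv
open Groth.Agent.Books.ComodDual Groth.Agent.Books.DynBasic
open Groth.Agent.Sga3.H814.UniStep K203.Pts K203.HomPt

namespace K101.GalPt

section comod

variable (k : Type u) [Field k] (K : Type u) [CommRing K] [Algebra k K] (H : Type u) [CommRing H] [HopfAlgebra k H]

/-- The coaction of `H` on `K ⊗ H` by right translations. -/
noncomputable def coactAlg : K ⊗[k] H →ₐ[k] (K ⊗[k] H) ⊗[k] H :=
  ((Algebra.TensorProduct.assoc k k k K H H).symm : K ⊗[k] (H ⊗[k] H) →ₐ[k] (K ⊗[k] H) ⊗[k] H).comp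
    (Algebra.TensorProduct.map (AlgHom.id k K) (Bialgebra.comulAlgHom k H))

variable {k K H}

lemma coactAlg_tmul (c : K) (h : H) : coactAlg k K H (c ⊗ₜ h) =
    (TensorProduct.assoc k K H H).symm (c ⊗ₜ CoalgebraStruct.comul (R := k) h) := rfl

lemma contr_assoc (f : H →ₗ[k] k) (c : K) (z : H ⊗[k] H) :
    contr f ((TensorProduct.assoc k K H H).symm (c ⊗ₜ z)) = c ⊗ₜ contr f z := by
  induction z with
  | zero => simp
  | add x y hx hy => rw [TensorProduct.tmul_add, map_add, map_add, hx, hy, map_add, TensorProduct.tmul_add]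
  | tmul x y =>
    rw [TensorProduct.assoc_symm_tmul, contr_tmul, contr_tmul, TensorProduct.tmul_smul]

lemma contr_coactAlg (f : H →ₗ[k] k) (c : K) (h : H) :
    contr f (coactAlg k K H (c ⊗ₜ h)) = c ⊗ₜ (cact f h : H) := by
  rw [coactAlg_tmul, contr_assoc]
  rfl

variable (k K H)

/-- `K ⊗ H` as a comodule. -/
@[reducible] noncomputable def cL : Comod k H (K ⊗[k] H) where
  coact := (coactAlg k K H).toLinearMap
  coassoc := by
    apply coassoc_of_contr
    intro f g w
    simp only [AlgHom.toLinearMap_apply]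
    induction w with
    | zero => simp
    | add x y hx hy => simp only [map_add, hx, hy]
    | tmul c h => rw [contr_coactAlg, contr_coactAlg, contr_coactAlg, cact_cact]
  counit_comp := by
    apply counit_of_contr
    intro w
    simp only [AlgHom.toLinearMap_apply]
    induction w with
    | zero => simp
    | add x y hx hy => simp only [map_add, hx, hy]
    | tmul c h => rw [contr_coactAlg, cact_counit]

lemma isComodAlg_cL : letI := cL k K H; IsComodAlg k H (K ⊗[k] H) := by
  let _ := cL k K H
  exact ⟨fun a b => map_mul (coactAlg k K H) a b, map_one (coactAlg k K H)⟩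

variable {k K H}

/-- evaluation at the unit -/
noncomputable def ev1 (k : Type u) [Field k] (K : Type u) [CommRing K] [Algebra k K] (H : Type u) [CommRing H]
    [HopfAlgebra k H] : K ⊗[k] H →ₐ[k] K := evL (1 : WithConv (H →ₐ[k] K))

lemma ev1_tmul (c : K) (h : H) : ev1 k K H (c ⊗ₜ h) = CoalgebraStruct.counit (R := k) h • c := by
  rw [ev1, evL_tmul, one_apply, mul_comm, Algebra.smul_def]

/-- `w ⊗ 1 = coact w` implies that `w` is a constant. -/
lemma eq_of_fixed (w : K ⊗[k] H) (hw : coactAlg k K H w = w ⊗ₜ 1) : w = ev1 k K H w ⊗ₜ 1 := by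
  let e : (K ⊗[k] H) ⊗[k] H →ₐ[k] K ⊗[k] H :=
    Algebra.TensorProduct.map (ev1 k K H) (AlgHom.id k H)
  have h1 : e.comp (coactAlg k K H) = AlgHom.id k _ := by
    apply Algebra.TensorProduct.ext
    · apply AlgHom.ext
      intro c
      change e (coactAlg k K H (c ⊗ₜ 1)) = c ⊗ₜ 1
      rw [coactAlg_tmul, Bialgebra.comul_one, Algebra.TensorProduct.one_def, TensorProduct.assoc_symm_tmul]
      change ev1 k K H (c ⊗ₜ 1) ⊗ₜ 1 = c ⊗ₜ 1
      rw [ev1_tmul, Bialgebra.counit_one, one_smul]
    · apply AlgHom.ext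
      intro h
      change e (coactAlg k K H (1 ⊗ₜ h)) = 1 ⊗ₜ h
      rw [coactAlg_tmul]
      have h2 : ∀ z : H ⊗[k] H, e ((TensorProduct.assoc k K H H).symm ((1 : K) ⊗ₜ z)) =
          (1 : K) ⊗ₜ (TensorProduct.lid k H ((CoalgebraStruct.counit (R := k) (A := H)).rTensor H z)) := by
        intro z
        induction z with
        | zero => simp
        | add x y hx hy => simp only [TensorProduct.tmul_add, map_add, hx, hy]
        | tmul x y =>
          rw [TensorProduct.assoc_symm_tmul]
          change ev1 k K H ((1 : K) ⊗ₜ x) ⊗ₜ y = _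
          rw [ev1_tmul, LinearMap.rTensor_tmul, TensorProduct.lid_tmul, TensorProduct.smul_tmul]
      rw [h2, Coalgebra.rTensor_counit_comul, TensorProduct.lid_tmul, one_smul]
  have h3 := AlgHom.congr_fun h1 w
  rw [AlgHom.comp_apply, hw] at h3
  exact h3.symm

end comod

section main

/-- **Existence of a rational point.** -/
theorem nonempty_algHom (k : Type u) [Field k] [PerfectField k] (K : Type u) [Field K] [Algebra k K]
    [IsAlgClosed K] [Algebra.IsAlgebraic k K] (H : Type u) [CommRing H] [HopfAlgebra k H]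
    [Algebra.FiniteType k H] [IsDomain (K ⊗[k] H)] (hU : HopfRep.IsUnipotent k H)
    (W : Subalgebra k (K ⊗[k] H))
    (hW : ∀ w ∈ W, ∀ f : H →ₗ[k] k, contr f (coactAlg k K H w) ∈ W)
    (hGal : ∀ σ : K ≃ₐ[k] K, ∃ v : WithConv (H →ₐ[k] K), ∀ w ∈ W, σ (ev1 k K H w) = evL v w) :
    Nonempty (W →ₐ[k] k) := by
  let _ := cL k K H
  have hsub : IsSubcomod (k := k) (A := H) (Subalgebra.toSubmodule W) := by
    rw [isSubcomod_iff]
    exact fun f w hw => hW w hw f
  let c₁ : Comod k H (Subalgebra.toSubmodule W) := Groth.Agent.Books.ComodDual.subComod (A := H) _ hsub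
  let c₂ : Comod k H W := c₁
  have hinj : Function.Injective (Algebra.TensorProduct.map W.val (AlgHom.id k H)) :=
    Module.Flat.rTensor_preserves_injective_linearMap (M := H) W.val.toLinearMap Subtype.val_injective
  have hco : ∀ w : W, Algebra.TensorProduct.map W.val (AlgHom.id k H)
      (Comod.coact (k := k) (A := H) w) = coactAlg k K H (w : K ⊗[k] H) := by
    intro w
    exact subComod_rTensor _ hsub w
  have hA : IsComodAlg k H W := by
    refine ⟨fun a b => ?_, ?_⟩
    · apply hinj
      rw [hco, map_mul, hco, hco, ← map_mul]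
      rfl
    · apply hinj
      rw [hco, map_one]
      exact map_one _
  have hfix : ∀ a ∈ fixedPts k H W, ∃ c : k, a = algebraMap k W c := by
    intro a ha
    have h1 : coactAlg k K H (a : K ⊗[k] H) = (a : K ⊗[k] H) ⊗ₜ 1 := by
      rw [← hco]
      have h2 : Comod.coact (k := k) (A := H) a = a ⊗ₜ[k] (1 : H) := ha
      rw [h2]
      rfl
    have h2 := eq_of_fixed _ h1
    have h3 : ∀ σ : K ≃ₐ[k] K, σ (ev1 k K H a) = ev1 k K H a := by
      intro σ
      obtain ⟨v, hv⟩ := hGal σ
      have h4 := hv a a.2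
      rw [h4]
      conv_lhs => rw [h2]
      rw [evL_tmul, map_one, mul_one]
    have : IsAlgClosure k K := ⟨inferInstance, inferInstance⟩
    have : Normal k K := IsAlgClosure.normal k K
    have : IsGalois k K := ⟨⟩
    obtain ⟨c, hc⟩ := (InfiniteGalois.mem_range_algebraMap_iff_fixed (k := k) (ev1 k K H a)).2 h3
    refine ⟨c, Subtype.ext ?_⟩
    rw [h2]
    change _ = algebraMap k (K ⊗[k] H) c
    rw [Algebra.TensorProduct.algebraMap_apply]
    congr 1
    exact hc.symm
  obtain ⟨N, ⟨e⟩⟩ := Groth.Agent.Sga3.H814.PolyThm.exists_mvPolynomial k K H hU W hA hfix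
  exact ⟨(MvPolynomial.aeval (fun _ => (0 : k))).comp (e : W →ₐ[k] MvPolynomial (Fin N) k)⟩

end main

end K101.GalPt
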