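import Groth.Agent.SGA3.K101.GalPt
import Groth.Agent.Sga3B.RG.Nullst

/-!
# A rational point in a Galois stable coset of a smooth connected unipotent subgroup (perfect field)
-/

set_option autoImplicit false

universe u

open TensorProduct HopfRep WithConv
open Groth.Agent.Books.ComodDual Groth.Agent.Books.DynBasic
open Groth.Agent.Sga3.H814.UniStep K203.Pts K203.HomPt

namespace K101.PtCoset

open K101.GalPt

section basic

variable {k : Type u} [Field k] {K : Type u} [CommRing K] [Algebra k K] {H : Type u} [CommRing H] [HopfAlgebra k H]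
  {A : Type u} [CommRing A] [HopfAlgebra k A]

lemma ev_ofB' (r : WithConv (A →ₐ[k] H)) (v : WithConv (H →ₐ[k] K)) :
    mapPt (evL v) (ofB K r) = mapPt v.ofConv r := ev_ofB r v

/-- Right translation of a constant point. -/
lemma mapPt_coactAlg_cst (t : WithConv (A →ₐ[k] K)) :
    mapPt (coactAlg k K H) (cst H t) = mapPt Algebra.TensorProduct.includeLeft (cst H t) := by
  apply K203.Pts.ext
  intro a
  change coactAlg k K H (t.ofConv a ⊗ₜ 1) = (t.ofConv a ⊗ₜ 1) ⊗ₜ 1
  rw [coactAlg_tmul, Bialgebra.comul_one, Algebra.TensorProduct.one_def, TensorProduct.assoc_symm_tmul]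

/-- Right translation of the universal point. -/
lemma mapPt_coactAlg_ofB (r : A →ₐc[k] H) :
    mapPt (coactAlg k K H) (ofB K (pt r)) = mapPt Algebra.TensorProduct.includeLeft (ofB K (pt r)) *
      mapPt Algebra.TensorProduct.includeRight (pt r) := by
  apply K203.Pts.ext
  intro a
  rw [mul_apply]
  change coactAlg k K H (1 ⊗ₜ r a) = _
  rw [coactAlg_tmul, ← CoalgHomClass.map_comp_comul_apply r a]
  generalize (CoalgebraStruct.comul (R := k) a : A ⊗[k] A) = z
  induction z with
  | zero => simp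
  | add x y hx hy => rw [map_add, map_add, TensorProduct.tmul_add, map_add, hx, hy]
  | tmul x y =>
    rw [TensorProduct.map_tmul, Algebra.TensorProduct.lift_tmul, TensorProduct.assoc_symm_tmul]
    change _ = (((1 : K) ⊗ₜ[k] r x) ⊗ₜ[k] (1 : H)) * ((1 : K ⊗[k] H) ⊗ₜ[k] r y)
    rw [Algebra.TensorProduct.tmul_mul_tmul, one_mul, mul_one]
    rfl

lemma mapPt_aux {R S : Type u} [CommRing R] [Algebra k R] [CommRing S] [Algebra k S] (f g : R →ₐ[k] S)
    (a b : WithConv (A →ₐ[k] R)) (c : WithConv (A →ₐ[k] S)) (ha : mapPt f a = mapPt g a)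
    (hb : mapPt f b = mapPt g b * c) : mapPt f (a * b) = mapPt g (a * b) * c := by
  rw [map_mul, map_mul, ha, hb, mul_assoc]

lemma mapPt_coactAlg_mul (t : WithConv (A →ₐ[k] K)) (r : A →ₐc[k] H) :
    mapPt (coactAlg k K H) (cst H t * ofB K (pt r)) =
      mapPt Algebra.TensorProduct.includeLeft (cst H t * ofB K (pt r)) *
        mapPt Algebra.TensorProduct.includeRight (pt r) := by
  exact mapPt_aux _ _ _ _ _ (mapPt_coactAlg_cst t) (mapPt_coactAlg_ofB r)

lemma contr_mul_incl (x y : WithConv (A →ₐ[k] (K ⊗[k] H) ⊗[k] H)) (F : A →ₐ[k] K ⊗[k] H)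
    (r : A →ₐ[k] H) (hx : ∀ a, x.ofConv a = F a ⊗ₜ 1) (hy : ∀ a, y.ofConv a = 1 ⊗ₜ r a)
    (f : H →ₗ[k] k) (a : A) : contr f ((x * y).ofConv a) ∈ F.range := by
  rw [mul_apply]
  generalize (CoalgebraStruct.comul (R := k) a : A ⊗[k] A) = z
  induction z with
  | zero => simp
  | add u v hu hv => rw [map_add, map_add]; exact add_mem hu hv
  | tmul u v =>
    rw [Algebra.TensorProduct.lift_tmul, hx, hy, Algebra.TensorProduct.tmul_mul_tmul, one_mul, mul_one,
      contr_tmul]
    exact F.range.smul_mem ⟨u, rfl⟩ _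

end basic

/-- **A rational point in a Galois stable coset.** -/
theorem exists_point_coset (k : Type u) [Field k] [PerfectField k] (K : Type u) [Field K] [Algebra k K]
    [IsAlgClosed K] [Algebra.IsAlgebraic k K] (A : Type u) [CommRing A] [HopfAlgebra k A] [Algebra.FiniteType k A]
    (Z : Ideal A) [Z.IsHopfIdeal k] [IsDomain (K ⊗[k] (A ⧸ Z))] (hU : HopfRep.IsUnipotent k (A ⧸ Z))
    (t : WithConv (A →ₐ[k] K))
    (ht : ∀ σ : K ≃ₐ[k] K, ∀ a ∈ Z, (t⁻¹ * mapPt (σ : K →ₐ[k] K) t).ofConv a = 0) :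
    ∃ u : WithConv (A →ₐ[k] k), ∀ f : A,
      (∀ z : WithConv (A →ₐ[k] K), (∀ a ∈ Z, z.ofConv a = 0) → (t * z).ofConv f = 0) → u.ofConv f = 0 := by
  have hft : Algebra.FiniteType k (A ⧸ Z) := inferInstance
  let r : A →ₐc[k] (A ⧸ Z) := Bialgebra.Quotient.mkBialgHom Z
  let F : WithConv (A →ₐ[k] K ⊗[k] (A ⧸ Z)) := cst (A ⧸ Z) t * ofB K (pt r)
  have hF : mapPt (coactAlg k K (A ⧸ Z)) F = mapPt Algebra.TensorProduct.includeLeft F *
      mapPt Algebra.TensorProduct.includeRight (pt r) := by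
    exact mapPt_coactAlg_mul t r
  have hev : ∀ v : WithConv ((A ⧸ Z) →ₐ[k] K), mapPt (evL v) F = t * mapPt v.ofConv (pt r) := by
    intro v
    rw [map_mul, ev_ofB']
    congr 1
    exact ev_cst t v
  have hev1 : mapPt (ev1 k K (A ⧸ Z)) F = t := by
    rw [ev1, hev]
    have h1 : mapPt (1 : WithConv ((A ⧸ Z) →ₐ[k] K)).ofConv (pt r) = 1 := by
      apply K203.Pts.ext
      intro a
      change (1 : WithConv ((A ⧸ Z) →ₐ[k] K)).ofConv (r a) = _
      rw [one_apply, one_apply, CoalgHomClass.counit_comp_apply]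
    rw [h1, mul_one]
  obtain ⟨e⟩ := nonempty_algHom k K (A ⧸ Z) hU F.ofConv.range
    (by
      rintro _ ⟨a, rfl⟩ f
      have h1 := DFunLike.congr_fun (congrArg WithConv.ofConv hF) a
      change coactAlg k K (A ⧸ Z) (F.ofConv a) = _ at h1
      change contr f (coactAlg k K (A ⧸ Z) (F.ofConv a)) ∈ _
      rw [h1]
      exact contr_mul_incl _ _ F.ofConv (r : A →ₐ[k] A ⧸ Z) (fun _ => rfl) (fun _ => rfl) f a)
    (by
      intro σ
      let v : WithConv ((A ⧸ Z) →ₐ[k] K) :=
        toConv (Ideal.Quotient.liftₐ Z (t⁻¹ * mapPt (σ : K →ₐ[k] K) t).ofConv (ht σ))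
      have hv : mapPt v.ofConv (pt r) = t⁻¹ * mapPt (σ : K →ₐ[k] K) t := rfl
      refine ⟨v, ?_⟩
      rintro _ ⟨a, rfl⟩
      have h1 := DFunLike.congr_fun (congrArg WithConv.ofConv hev1) a
      change ev1 k K (A ⧸ Z) (F.ofConv a) = t.ofConv a at h1
      have h2 := hev v
      rw [hv, mul_inv_cancel_left] at h2
      have h3 := DFunLike.congr_fun (congrArg WithConv.ofConv h2) a
      change evL v (F.ofConv a) = σ (t.ofConv a) at h3
      change σ (ev1 k K (A ⧸ Z) (F.ofConv a)) = evL v (F.ofConv a)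
      rw [h1, h3])
  refine ⟨toConv (e.comp F.ofConv.rangeRestrict), ?_⟩
  intro f hf
  have hFf : F.ofConv f = 0 := by
    have : Algebra.FiniteType K (K ⊗[k] (A ⧸ Z)) := inferInstance
    apply Groth.Agent.Sga3B.RG.eq_zero_of_forall_algHom (K := K)
    intro g
    let v : WithConv ((A ⧸ Z) →ₐ[k] K) :=
      toConv ((g.restrictScalars k).comp Algebra.TensorProduct.includeRight)
    have hg : g.restrictScalars k = evL v := by
      apply Algebra.TensorProduct.ext
      · apply AlgHom.ext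
        intro c
        change g (c ⊗ₜ 1) = evL v (c ⊗ₜ 1)
        rw [evL_tmul, map_one, mul_one]
        exact g.commutes c
      · apply AlgHom.ext
        intro h
        change g (1 ⊗ₜ h) = evL v (1 ⊗ₜ h)
        rw [evL_tmul, one_mul]
        rfl
    have h1 := hf (mapPt v.ofConv (pt r)) (fun a ha => by
      change v.ofConv (Ideal.Quotient.mk Z a) = 0
      rw [Ideal.Quotient.eq_zero_iff_mem.2 ha, map_zero])
    rw [← hev] at h1
    change (g.restrictScalars k) (F.ofConv f) = 0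
    rw [hg]
    exact h1
  change e (F.ofConv.rangeRestrict f) = 0
  have h2 : F.ofConv.rangeRestrict f = 0 := Subtype.ext hFf
  rw [h2, map_zero]

end K101.PtCoset
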